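import Cfsg.Agent.H514.K547.Core
import Cfsg.Agent.H714.S4547.Coset
import Cfsg.Agent.H246.Dl.KFix
import Cfsg.Agent.H133.PB.Basic
import Cfsg.Agent.H967.K4.Sig
import Cfsg.Agent.Lib.FrattiniPGroup
import Cfsg.Agent.S0029

/-!
# S4547: quotients by normal subgroups in the Frattini subgroup of a Sylow 2-subgroup (helper967)

* `good_infl` : the inflation of a good character is good;
* `hasFix_frattini` : a good character has a nonzero vector fixed by `Φ(P)`;
* `fg_quot_frattini` : `G` and `G / N`, `N ≤ Φ(P)`, have the same number of good characters.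
-/

set_option autoImplicit false

open Cfsg Cfsg.Agent.Characters.Core Subgroup

namespace Cfsg.Agent.H967.K547

open Cfsg.Agent.H601.K4 Cfsg.Agent.H821.K547 Cfsg.Agent.H514.K547 Cfsg.Agent.H618.Sigma Cfsg.Agent.H714.S4547
  Cfsg.Agent.H246.Dl Cfsg.Agent.H967.K4

universe u

theorem cube_of_surjective {G H : Type*} [Group G] [Group H] [Finite G] (f : G →* H) (hf : Function.Surjective f)
    {k : ℕ} (hk : Cube G k) : Cube H k where
  two g hg := by
    have : Finite H := Finite.of_surjective f hf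
    obtain ⟨x, rfl⟩ := hf g
    obtain ⟨u, s, rfl, hus, hu, hs⟩ := exists_decomp x
    have h1 : f s = 1 := by
      obtain ⟨j, hj⟩ := hg
      have h2 : (f u * f s) ^ 2 ^ j = 1 := by rw [← map_mul, ← hj, pow_orderOf_eq_one]
      obtain ⟨i, hi⟩ := two_pow_map f hu
      rw [(hus.map f).mul_pow] at h2
      have h3 : (f s) ^ (2 ^ j * 2 ^ i) = 1 := by
        have h4 : (f u ^ 2 ^ j * f s ^ 2 ^ j) ^ 2 ^ i = 1 := by rw [h2, one_pow]
        rw [((hus.map f).pow_pow _ _).mul_pow, ← pow_mul, mul_comm, pow_mul, ← pow_mul (f s)] at h4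
        have h5 : (f u ^ 2 ^ i) = 1 := by rw [← hi, pow_orderOf_eq_one]
        rw [← pow_mul] at h4
        rw [mul_comm] at h4
        rw [mul_comm (2 ^ j) (2 ^ i), pow_mul, h5, one_pow, one_mul] at h4
        rw [mul_comm (2 ^ j) (2 ^ i)]
        exact h4
      have h6 : orderOf (f s) ∣ 2 ^ j * 2 ^ i := orderOf_dvd_of_pow_eq_one h3
      rw [← pow_add] at h6
      have h7 := odd_map f hs
      have h8 : (orderOf (f s)).Coprime (2 ^ (j + i)) := Nat.Coprime.pow_right _ (Nat.coprime_two_right.2 h7)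
      exact orderOf_eq_one_iff.1 (h8.eq_one_of_dvd h6)
    rw [map_mul, h1, mul_one, ← map_pow, ← map_pow, hk.two u hu]
  odd g hg := by
    have : Finite H := Finite.of_surjective f hf
    obtain ⟨x, rfl⟩ := hf g
    obtain ⟨u, s, rfl, hus, hu, hs⟩ := exists_decomp x
    have h1 : f u = 1 := by
      obtain ⟨i, hi⟩ := two_pow_map f hu
      have h2 : (f u * f s) ^ orderOf (f (u * s)) = 1 := by rw [← map_mul, pow_orderOf_eq_one]
      rw [(hus.map f).mul_pow] at h2
      have h4 : (f u) ^ (orderOf (f (u * s)) * orderOf (f s)) = 1 := by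
        have h5 : ((f u) ^ orderOf (f (u * s)) * (f s) ^ orderOf (f (u * s))) ^ orderOf (f s) = 1 := by
          rw [h2, one_pow]
        rw [((hus.map f).pow_pow _ _).mul_pow, ← pow_mul, ← pow_mul, mul_comm (orderOf (f (u * s))) (orderOf (f s)),
          pow_mul (f s), pow_orderOf_eq_one, one_pow, mul_one, mul_comm] at h5
        exact h5
      have h6 := orderOf_dvd_of_pow_eq_one h4
      rw [hi] at h6
      have h7 : Odd (orderOf (f (u * s)) * orderOf (f s)) := hg.mul (odd_map f hs)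
      have h8 : (2 ^ i).Coprime (orderOf (f (u * s)) * orderOf (f s)) :=
        Nat.Coprime.pow_left _ (Nat.coprime_two_left.2 h7)
      have h9 := h8.eq_one_of_dvd h6
      exact orderOf_eq_one_iff.1 (by rw [hi, h9])
    rw [map_mul, h1, one_mul, ← map_pow, hk.odd s hs]

variable {G : Type u} [Group G] [Finite G]

/-- inflation -/
theorem good_infl (N : Subgroup G) [N.Normal] {ψ : G ⧸ N → ℂ} (hψ : Good ψ) : Good (fun g : G => ψ (g : G ⧸ N)) := by
  have hsur := QuotientGroup.mk'_surjective N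
  have hi : IsIrrCharacter G (fun g : G => ψ (g : G ⧸ N)) := isIrr_comp (QuotientGroup.mk' N) hsur hψ.odd.1
  refine ⟨⟨hi, hψ.odd.2⟩, ?_, ?_⟩
  · intro k h2 h3 g
    have hk : Cube (G ⧸ N) k := cube_of_surjective (QuotientGroup.mk' N) hsur ⟨h2, h3⟩
    exact hψ.sig k hk.two hk.odd (g : G ⧸ N)
  · intro M hM h
    have : M.IsPrime := hM.2.1.isPrime
    exact H133.PB.mem_principalBlock_comp (QuotientGroup.mk' N) hsur (hψ.b0 M hM hψ.odd.1)

theorem hasFix_map (P : Subgroup G) (V : Subgroup P) {χ : G → ℂ} (h : HasFix (fun x : P => χ x) V) :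
    HasFix χ (V.map P.subtype) := by
  classical
  have : Fintype V := Fintype.ofFinite V
  have : Fintype (V.map P.subtype) := Fintype.ofFinite _
  rw [hasFix_iff] at h ⊢
  intro h0
  apply h
  rw [← h0]
  refine Fintype.sum_equiv (V.equivMapOfInjective P.subtype P.subtype_injective).toEquiv _ _ fun v => ?_
  rfl

/-- the Frattini subgroup is in the subgroup generated by the squares -/
theorem frattini_le_sq (P : Type u) [Group P] [Finite P] : frattini P ≤ Sq P := by
  have : Fact (Nat.Prime 2) := ⟨Nat.prime_two⟩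
  refine Lib.FrattiniPGroup.frattini_le (p := 2) (Sq P) (fun x y => ?_) fun x => sq_mem x
  have e : x * y * x⁻¹ * y⁻¹ = x ^ 2 * (x⁻¹ * y) ^ 2 * (y ^ 2)⁻¹ := by
    rw [pow_two, pow_two, pow_two]
    group
  rw [commutatorElement_def, e]
  exact mul_mem (mul_mem (sq_mem x) (sq_mem _)) (inv_mem (sq_mem y))

theorem hasFix_frattini (P : Sylow 2 G) {χ : G → ℂ} (hχ : Good χ) :
    HasFix χ ((frattini ↥P).map (P : Subgroup G).subtype) := by
  classical
  obtain ⟨k, hk⟩ := H740.K4.exists_cube G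
  have hc := isIrr_isCharacter hχ.odd.1
  refine hasFix_map _ _ (HasFix.mono (isCharacter_comp (P : Subgroup G).subtype hc) (frattini_le_sq ↥P) ?_)
  have : Fintype (Sq ↥P) := Fintype.ofFinite _
  rw [hasFix_iff]
  obtain ⟨a, ha, h1⟩ := sum_coset_odd (D := ↥P) P.isPGroup' (hk.subgroup (P : Subgroup G))
    (θ := fun x : ↥P => χ x) (isCharacter_comp (P : Subgroup G).subtype hc)
    (fun g => by
      change χ ((g ^ k : ↥P) : G) = χ g
      rw [Subgroup.coe_pow]
      exact hχ.sig k hk.two hk.odd (g : G))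
    (d := charDegree χ) (Cfsg.Agent.Blocks.Basic.irr_one_eq_charDegree hχ.odd.1)
    (by
      rw [← Nat.not_even_iff_odd, even_iff_two_dvd]
      exact hχ.odd.2) 1
  intro h0
  have h2 : ∑ y : Sq ↥P, χ ((1 * (y : ↥P) : ↥P) : G) = 0 := by
    rw [← h0]
    refine Finset.sum_congr rfl fun y _ => ?_
    rw [one_mul]
    rfl
  rw [h1] at h2
  rcases mul_eq_zero.1 h2 with h3 | h3
  · have h4 : Nat.card (Sq ↥P) ≠ 0 := Nat.card_pos.ne'
    exact h4 (by exact_mod_cast h3)
  · have h4 : a = 0 := by exact_mod_cast h3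
    rw [h4] at ha
    exact absurd ha (by decide)

/-- **Deflation.** -/
theorem exists_defl (P : Sylow 2 G) (N : Subgroup G) [hN : N.Normal]
    (h : N ≤ (frattini ↥P).map (P : Subgroup G).subtype) {χ : G → ℂ} (hχ : Good χ) :
    ∃ ψ : G ⧸ N → ℂ, Good ψ ∧ (fun g : G => ψ (g : G ⧸ N)) = χ := by
  classical
  have : Fact (Nat.Prime 2) := ⟨Nat.prime_two⟩
  have : Fintype N := Fintype.ofFinite N
  have h0 := (HasFix.mono (isIrr_isCharacter hχ.odd.1) h (hasFix_frattini P hχ))
  rw [hasFix_iff] at h0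
  obtain ⟨ψ, hψ⟩ := Cfsg.Agent.Blocks.Deflate.exists_deflation N χ hχ.odd.1 h0
  have hval : ∀ g : G, (ψ : G ⧸ N → ℂ) (g : G ⧸ N) = χ g := fun g => by rw [hψ]; rfl
  have hd : charDegree (ψ : G ⧸ N → ℂ) = charDegree χ := by
    rw [hψ]
    rfl
  obtain ⟨k, hk⟩ := H740.K4.exists_cube G
  have hsur := QuotientGroup.mk'_surjective N
  have hodd : OddIrr (ψ : G ⧸ N → ℂ) := ⟨ψ.2, by rw [hd]; exact hχ.odd.2⟩
  have hNP : N ≤ (P : Subgroup G) := h.trans (map_subtype_le _)
  refine ⟨ψ, ⟨hodd, ?_, ?_⟩, funext hval⟩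
  · refine SF.sigFix (SF.of_pow (cube_of_surjective (QuotientGroup.mk' N) hsur hk) fun x => ?_)
    obtain ⟨g, rfl⟩ := hsur x
    change (ψ : G ⧸ N → ℂ) (((g ^ k : G) : G ⧸ N)) = (ψ : G ⧸ N → ℂ) (g : G ⧸ N)
    rw [hval, hval]
    exact hχ.sig k hk.two hk.odd g
  · intro M hM hi
    have : M.IsPrime := hM.2.1.isPrime
    have hP' : IsPGroup 2 ((P : Subgroup G).map (QuotientGroup.mk' N)) := P.isPGroup'.map _
    refine H700.PRatExt.mem_principalBlock_of_pregular hM hP' ⟨ψ, hi⟩ hodd.2 fun x hx hx2 => ?_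
    -- a lift of odd order
    obtain ⟨g, rfl⟩ := hsur x
    obtain ⟨u, y, rfl, huy, hu, hy⟩ := exists_decomp g
    have hmu : QuotientGroup.mk' N u = 1 := by
      obtain ⟨i, hi⟩ := two_pow_map (QuotientGroup.mk' N) hu
      have hc := huy.map (QuotientGroup.mk' N)
      have h2 : ¬ 2 ∣ orderOf (QuotientGroup.mk' N u * QuotientGroup.mk' N y) := by
        rw [← map_mul]
        exact hx2
      have h3 := odd_map (QuotientGroup.mk' N) hy
      have h4 : (orderOf (QuotientGroup.mk' N u)).Coprime (orderOf (QuotientGroup.mk' N y)) := by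
        rw [hi]
        exact Nat.Coprime.pow_left _ (Nat.coprime_two_left.2 h3)
      rw [hc.orderOf_mul_eq_mul_orderOf_of_coprime h4, hi] at h2
      have h5 : i = 0 := by
        by_contra hne
        exact h2 ((dvd_pow_self 2 hne).mul_right _)
      rw [h5, pow_zero, orderOf_eq_one_iff] at hi
      exact hi
    have hxy : QuotientGroup.mk' N (u * y) = QuotientGroup.mk' N y := by rw [map_mul, hmu, one_mul]
    rw [hxy] at hx ⊢
    -- `y` centralizes `P`
    have hcom : ∀ w ∈ zpowers y, ∀ z ∈ (P : Subgroup G), w * z * w⁻¹ * z⁻¹ ∈ N := by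
      intro w hw z hz
      have hw' : QuotientGroup.mk' N w ∈ centralizer (((P : Subgroup G).map (QuotientGroup.mk' N) : Subgroup (G ⧸ N)) : Set (G ⧸ N)) := by
        obtain ⟨j, rfl⟩ := mem_zpowers_iff.1 hw
        rw [map_zpow]
        exact zpow_mem hx j
      rw [← QuotientGroup.ker_mk' N, MonoidHom.mem_ker, map_mul, map_mul, map_mul, map_inv, map_inv]
      have h1 := mem_centralizer_iff.1 hw' (QuotientGroup.mk' N z) ⟨z, hz, rfl⟩
      rw [← h1, mul_inv_cancel_right, mul_inv_cancel]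
    have hyP : ∀ w ∈ zpowers y, ∀ z ∈ (P : Subgroup G), w * z * w⁻¹ ∈ (P : Subgroup G) := by
      intro w hw z hz
      have := mul_mem (hNP (hcom w hw z hz)) hz
      rwa [inv_mul_cancel_right] at this
    have hyn : zpowers y ≤ normalizer ((P : Subgroup G) : Set G) := by
      intro w hw
      rw [mem_normalizer_iff]
      intro z
      refine ⟨fun hz => hyP w hw z hz, fun hz => ?_⟩
      have h1 := hyP w⁻¹ (inv_mem hw) _ hz
      have e : w⁻¹ * (w * z * w⁻¹) * w⁻¹⁻¹ = z := by group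
      rwa [e] at h1
    have hyc : y ∈ centralizer ((P : Subgroup G) : Set G) := by
      have h1 : zpowers y ≤ centralizer ((P : Subgroup G) : Set G) := by
        refine S0029.result (zpowers y) (P : Subgroup G) hyn ?_ fun w hw z hz => h (hcom w hw z hz)
        rw [Nat.card_zpowers]
        obtain ⟨j, hj⟩ := IsPGroup.iff_card.1 (P.isPGroup'.to_subgroup (frattini ↥P))
        have hj' : Nat.card (frattini ↥(P : Subgroup G)) = 2 ^ j := hj
        rw [hj']
        exact Nat.Coprime.pow_right _ (Nat.coprime_two_right.2 hy)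
      exact h1 (mem_zpowers y)
    rw [show (1 : G ⧸ N) = QuotientGroup.mk' N 1 from (map_one _).symm]
    change MemLocalIdeal M ((ψ : G ⧸ N → ℂ) ((y : G) : G ⧸ N) - (ψ : G ⧸ N → ℂ) ((1 : G) : G ⧸ N))
    rw [hval, hval]
    exact (H700.PrinCrit.mem_principalBlock_iff hM P.isPGroup' P.not_dvd_index ⟨χ, hχ.odd.1⟩ hχ.odd.2).1
      (hχ.b0 M hM hχ.odd.1) y hyc

/-- **The quotient by a normal subgroup in the Frattini subgroup.** -/
theorem fg_quot_frattini (P : Sylow 2 G) (N : Subgroup G) [N.Normal]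
    (h : N ≤ (frattini ↥P).map (P : Subgroup G).subtype) : fg (G ⧸ N) = fg G := by
  refine Set.ncard_congr (fun ψ _ => fun g : G => ψ (g : G ⧸ N)) (fun ψ hψ => good_infl N hψ) ?_ ?_
  · intro ψ ψ' _ _ e
    funext x
    obtain ⟨g, rfl⟩ := QuotientGroup.mk'_surjective N x
    exact congrFun e g
  · intro χ hχ
    obtain ⟨ψ, h1, h2⟩ := exists_defl P N h hχ
    exact ⟨ψ, h1, h2⟩

end Cfsg.Agent.H967.K547
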