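import Cfsg.Agent.H307.QE.Defs
import Cfsg.Agent.H714.S4547.XFg
import Cfsg.Agent.H967.K547.QuotF
import Cfsg.Agent.H396.K547.Rank
import Cfsg.Agent.H220.K547.Resid

/-!
# S4547, `q` even: the special rows, abstract part (helper967)
-/

set_option autoImplicit false
set_option linter.unusedSectionVars false

open Cfsg

namespace Cfsg.Agent.H967.K547.Special

open Cfsg.Agent.H601.K4 Cfsg.Agent.H821.K547 Cfsg.Agent.H514.K547 Cfsg.Agent.H714.S4547

universe u

section bound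

variable {G : Type u} [Group G] [Finite G]

/-- **The bound.** -/
theorem fg_le_four (D : Subgroup G) (hD : IsPGroup 2 D) (x : D) (hidx : Nat.card D ≤ 4 * Nat.card (Sq D))
    (H : ∀ (a b : Sq D) (g : G), g * cz x a * g⁻¹ = cz x b → g ∈ D) : fg G ≤ 4 := by
  classical
  have : Fact (Nat.Prime 2) := ⟨Nat.prime_two⟩
  obtain ⟨M, hM⟩ := Cfsg.Agent.Blocks.ExistsModular.exists_isPModular Nat.prime_two
  obtain ⟨k, hk⟩ := H740.K4.exists_cube G
  rw [fg_eq_fnum hM hk]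
  have hCD : ∀ a : Sq D, Subgroup.centralizer ({cz x a} : Set G) ≤ D := by
    intro a g hg
    rw [Subgroup.mem_centralizer_singleton_iff] at hg
    refine H a a g ?_
    rw [hg]; group
  have hCp : ∀ a : Sq D, IsPGroup 2 (Subgroup.centralizer ({cz x a} : Set G)) := fun a => hD.to_le (hCD a)
  refine card_le hM hk D hD x 4 (fun a => ?_) fun a => ?_
  · obtain ⟨n, hn⟩ := IsPGroup.iff_card.1 (hCp a)
    have h1 : (pPrimeCore 2 (Subgroup.centralizer ({cz x a} : Set G))).index ∣ 2 ^ n := by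
      rw [← hn]; exact Subgroup.index_dvd_card _
    obtain ⟨j, -, hj⟩ := (Nat.dvd_prime_pow Nat.prime_two).1 h1
    exact ⟨j, hj⟩
  · obtain ⟨n, hn⟩ := IsPGroup.iff_card.1 (hCp a)
    have h0 : 2 ^ (Nat.card (Subgroup.centralizer ({cz x a} : Set G))).factorization 2 =
        Nat.card (Subgroup.centralizer ({cz x a} : Set G)) := by
      rw [hn, Nat.Prime.factorization_pow Nat.prime_two, Finsupp.single_eq_same]
    rw [h0]
    refine le_trans ?_ hidx
    choose f hf using fun b : {b : Sq D // IsConj (cz x a) (cz x b)} => isConj_iff.1 b.2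
    have hinj : Function.Injective fun p : {b : Sq D // IsConj (cz x a) (cz x b)} ×
        Subgroup.centralizer ({cz x a} : Set G) => (⟨f p.1 * p.2, D.mul_mem (H a p.1.1 _ (hf p.1)) (hCD a p.2.2)⟩ : D) := by
      rintro ⟨b, c⟩ ⟨b', c'⟩ h1
      have h2 : f b * c = f b' * c' := congrArg Subtype.val h1
      have hcomm : ∀ c : Subgroup.centralizer ({cz x a} : Set G), (c : G) * cz x a * (c : G)⁻¹ = cz x a := by
        intro c
        have h3 := c.2
        rw [Subgroup.mem_centralizer_singleton_iff] at h3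
        rw [h3]; group
      have h3 : (f b * c) * cz x a * (f b * c)⁻¹ = cz x b.1 := by
        calc (f b * c) * cz x a * (f b * c)⁻¹ = f b * ((c : G) * cz x a * (c : G)⁻¹) * (f b)⁻¹ := by group
          _ = _ := by rw [hcomm c]; exact hf b
      have h4 : (f b' * c') * cz x a * (f b' * c')⁻¹ = cz x b'.1 := by
        calc (f b' * c') * cz x a * (f b' * c')⁻¹ = f b' * ((c' : G) * cz x a * (c' : G)⁻¹) * (f b')⁻¹ := by group
          _ = _ := by rw [hcomm c']; exact hf b'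
      have h5 : cz x b.1 = cz x b'.1 := by rw [← h3, ← h4, h2]
      have h6 : b = b' := by
        apply Subtype.ext
        apply Subtype.ext
        exact mul_left_cancel (Subtype.ext h5)
      subst h6
      have h7 : c = c' := Subtype.ext (mul_left_cancel h2)
      rw [h7]
    have h1 := Nat.card_le_card_of_injective _ hinj
    rwa [Nat.card_prod] at h1

end bound

section residual

variable {S : Type u} [Group S] [Finite S] [IsSimpleGroup S]

theorem center_eq_bot (hna : ¬ IsMulCommutative S) : Subgroup.center S = ⊥ := by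
  rcases Subgroup.Normal.eq_bot_or_eq_top (H := Subgroup.center S) inferInstance with h1 | h1
  · exact h1
  · exfalso
    exact hna ⟨⟨fun a b => (Subgroup.mem_center_iff.1 (h1 ▸ Subgroup.mem_top b : b ∈ Subgroup.center S) a)⟩⟩

theorem exists_odd_elt (hna : ¬ IsMulCommutative S) : ∃ s : S, s ≠ 1 ∧ Nat.Coprime (orderOf s) 2 := by
  have : Fact (Nat.Prime 2) := ⟨Nat.prime_two⟩
  by_contra hcon
  push Not at hcon
  have hp : IsPGroup 2 S := by
    intro s
    obtain ⟨k, m, hm, hkm⟩ := Nat.exists_eq_two_pow_mul_odd (orderOf_pos s).ne'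
    refine ⟨k, ?_⟩
    by_contra h1
    apply hcon _ h1
    rw [orderOf_pow, hkm, Nat.gcd_eq_right (Dvd.intro _ rfl), Nat.mul_div_cancel_left _ (by positivity)]
    exact Nat.coprime_two_right.2 hm
  have hc := IsPGroup.center_nontrivial hp
  rw [center_eq_bot hna] at hc
  exact absurd hc (not_nontrivial_iff_subsingleton.2 inferInstance)

/-- the group of the inner automorphisms inside `AutExt τ` -/
def innS (τ : MulAut S) : Subgroup (AutExt τ) := (MulAut.conj : S →* MulAut S).range.subgroupOf (AutExt τ)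

instance (τ : MulAut S) : (innS τ).Normal := by
  unfold innS
  infer_instance

theorem pow_mem_innS {τ : MulAut S} {k : ℕ} (hk : τ ^ 2 ^ k ∈ (MulAut.conj : S →* MulAut S).range) (g : AutExt τ) :
    g ^ 2 ^ k ∈ innS τ := by
  have h1 : ∀ g ∈ AutExt τ, ∃ j : ℤ, g * τ ^ j ∈ (MulAut.conj : S →* MulAut S).range := by
    intro g hg
    obtain ⟨a, ha, c, ⟨j, rfl⟩, rfl⟩ := Subgroup.mem_sup_of_normal_left.1 (show g ∈ (MulAut.conj : S →* MulAut S).range ⊔
      Subgroup.zpowers τ from hg)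
    exact ⟨-j, by rw [mul_assoc]; simpa using ha⟩
  obtain ⟨j, hj⟩ := h1 g g.2
  show (g : MulAut S) ^ 2 ^ k ∈ (MulAut.conj : S →* MulAut S).range
  have e1 : ((g : MulAut S) : MulAut S ⧸ (MulAut.conj : S →* MulAut S).range) = ((τ ^ (-j) : MulAut S) : MulAut S ⧸ _) := by
    rw [QuotientGroup.eq]
    have h2 := (inferInstance : ((MulAut.conj : S →* MulAut S).range).Normal).conj_mem _ (inv_mem hj) (g : MulAut S)⁻¹
    have e2 : (g : MulAut S)⁻¹ * ((g : MulAut S) * τ ^ j)⁻¹ * (g : MulAut S)⁻¹⁻¹ = (g : MulAut S)⁻¹ * τ ^ (-j) := by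
      rw [zpow_neg]; group
    rwa [e2] at h2
  rw [← QuotientGroup.eq_one_iff, QuotientGroup.mk_pow, e1, ← QuotientGroup.mk_pow, QuotientGroup.eq_one_iff,
    ← zpow_natCast, ← zpow_mul, mul_comm, zpow_mul, zpow_natCast]
  exact zpow_mem hk _

theorem innS_eq (hna : ¬ IsMulCommutative S) {τ : MulAut S} (hτ : TwoPow τ) : innS τ = pResidual 2 (AutExt τ) := by
  obtain ⟨k, s₀, hs₀⟩ := hτ
  have hk : τ ^ 2 ^ k ∈ (MulAut.conj : S →* MulAut S).range := ⟨s₀, by ext x; exact (hs₀ x).symm⟩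
  apply le_antisymm
  · let j : S →* AutExt τ := (MulAut.conj : S →* MulAut S).codRestrict _ fun s => (le_sup_left : _ ≤ AutExt τ) ⟨s, rfl⟩
    have hnr : (pResidual 2 (AutExt τ)).Normal := Cfsg.Agent.Transfer.Residual.pResidual_normal 2
    have hn : ((pResidual 2 (AutExt τ)).comap j).Normal := inferInstance
    have hmem : ∀ s : S, Nat.Coprime (orderOf s) 2 → j s ∈ pResidual 2 (AutExt τ) := by
      intro s hs
      refine Subgroup.subset_closure ?_
      show Nat.Coprime (orderOf (j s)) 2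
      exact Nat.Coprime.coprime_dvd_left (orderOf_map_dvd j s) hs
    rcases hn.eq_bot_or_eq_top with h1 | h1
    · exfalso
      obtain ⟨s, hs1, hs⟩ := exists_odd_elt (S := S) hna
      apply hs1
      have h2 : s ∈ (pResidual 2 (AutExt τ)).comap j := hmem s hs
      rwa [h1, Subgroup.mem_bot] at h2
    · rintro ⟨g, hg⟩ ⟨s, hs⟩
      have h2 : s ∈ (pResidual 2 (AutExt τ)).comap j := by rw [h1]; exact Subgroup.mem_top s
      have h3 : j s = ⟨g, hg⟩ := Subtype.ext hs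
      rw [← h3]
      exact h2
  · unfold pResidual
    rw [Subgroup.closure_le]
    intro g hg
    have h1 := pow_mem_innS hk g
    have hco : Nat.Coprime (orderOf g) (2 ^ k) := Nat.Coprime.pow_right k hg
    obtain ⟨m, hm⟩ := exists_pow_eq_self_of_coprime hco.symm
    rw [SetLike.mem_coe, ← hm]
    exact pow_mem h1 m

/-- three good fixed characters give at least five good characters of the extension -/
theorem five_le (hna : ¬ IsMulCommutative S) {τ : MulAut S} (hτ : TwoPow τ) (ho : ¬ IsInn τ) (h : GInv3 τ) :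
    5 ≤ fg (AutExt τ) := by
  have hfin : Finite (MulAut S) := Finite.of_injective (fun f : MulAut S => (f : S → S)) DFunLike.coe_injective
  have hmτ : τ ∈ AutExt τ := (le_sup_right : _ ≤ AutExt τ) (Subgroup.mem_zpowers τ)
  have hinj : Function.Injective (MulAut.conj : S →* MulAut S) := by
    rw [injective_iff_map_eq_one]
    intro g hg
    have h1 : g ∈ Subgroup.center S := by
      rw [Subgroup.mem_center_iff]
      intro k
      have h2 := congrArg (fun f : MulAut S => f k) hg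
      simp only [MulAut.conj_apply, MulAut.one_apply] at h2
      exact (mul_inv_eq_iff_eq_mul.1 h2).symm
    rwa [center_eq_bot hna, Subgroup.mem_bot] at h1
  have hne : innS τ ≠ ⊤ := by
    intro h1
    have h2 : (⟨τ, hmτ⟩ : AutExt τ) ∈ innS τ := by rw [h1]; exact Subgroup.mem_top _
    obtain ⟨s, hs⟩ := h2
    have hs' : MulAut.conj s = τ := hs
    exact ho ⟨s, fun x => by rw [← hs']; rfl⟩
  have hgen : innS τ ⊔ Subgroup.zpowers (⟨τ, hmτ⟩ : AutExt τ) = ⊤ := by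
    rw [eq_top_iff]
    rintro ⟨g, hg⟩ -
    obtain ⟨a, ha, c, ⟨j, rfl⟩, rfl⟩ := Subgroup.mem_sup_of_normal_left.1 (show g ∈ (MulAut.conj : S →* MulAut S).range ⊔
      Subgroup.zpowers τ from hg)
    have haA : a ∈ AutExt τ := (le_sup_left : _ ≤ AutExt τ) ha
    have e : (⟨a * τ ^ j, hg⟩ : AutExt τ) = ⟨a, haA⟩ * (⟨τ, hmτ⟩ : AutExt τ) ^ j := by
      apply Subtype.ext
      rw [Subgroup.coe_mul, Subgroup.coe_zpow]
    show (⟨a * τ ^ j, hg⟩ : AutExt τ) ∈ _
    rw [e]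
    exact Subgroup.mul_mem_sup (show (⟨a, haA⟩ : AutExt τ) ∈ innS τ from ha) ⟨j, rfl⟩
  have h1 := H220.K547.fg_residual (innS τ) (innS_eq hna hτ) hne ⟨τ, hmτ⟩ hgen
  -- the isomorphism
  let j : S →* innS τ := ((MulAut.conj : S →* MulAut S).codRestrict (AutExt τ) fun s =>
    (le_sup_left : _ ≤ AutExt τ) ⟨s, rfl⟩).codRestrict (innS τ) fun s => ⟨s, rfl⟩
  have hj : Function.Bijective j := by
    constructor
    · intro a b hab
      exact hinj (congrArg (fun x : innS τ => ((x : AutExt τ) : MulAut S)) hab)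
    · rintro ⟨⟨g, hg⟩, s, hs⟩
      exact ⟨s, Subtype.ext (Subtype.ext hs)⟩
  let e : S ≃* innS τ := MulEquiv.ofBijective j hj
  obtain ⟨χ, hχ, hg⟩ := h
  have hex : ∀ y : innS τ, e.symm (MulAut.conjNormal (⟨τ, hmτ⟩ : AutExt τ) y) = τ (e.symm y) := by
    intro y
    rw [MulEquiv.symm_apply_eq]
    obtain ⟨s, rfl⟩ := e.surjective y
    rw [e.symm_apply_apply]
    apply Subtype.ext
    apply Subtype.ext
    show τ * MulAut.conj s * τ⁻¹ = MulAut.conj (τ s)
    ext x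
    simp only [MulAut.mul_apply, MulAut.conj_apply, map_mul, map_inv, MulAut.apply_inv_self]
  have h2 : Set.range (fun i : Fin 3 => fun y : innS τ => χ i (e.symm y)) ⊆ gsx (innS τ) ⟨τ, hmτ⟩ := by
    rintro _ ⟨i, rfl⟩
    refine ⟨H740.K4.good_comp e.symm (hg i).1, fun y => ?_⟩
    show χ i (e.symm _) = χ i (e.symm y)
    rw [hex, (hg i).2]
  have h3 := Set.ncard_le_ncard h2 (gsx_finite _ _)
  have hinj2 : Function.Injective (fun i : Fin 3 => fun y : innS τ => χ i (e.symm y)) := by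
    intro i i' hii
    apply hχ
    funext s
    have := congrFun hii (e s)
    simpa using this
  rw [← Set.image_univ, Set.ncard_image_of_injective _ hinj2, Set.ncard_univ, Nat.card_eq_fintype_card, Fintype.card_fin]
    at h3
  omega

end residual

section ext

/-- An extension of `Y` by the automorphism `β`. -/
structure Xt {Y : Type u} [Group Y] (β : MulAut Y) {G : Type u} [Group G] (ι : Y →* G) (b : G) : Prop where
  inj : Function.Injective ι
  cj : ∀ y, b * ι y * b⁻¹ = ι (β y)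
  gen : ∀ g : G, ∃ (y : Y) (j : ℤ), g = ι y * b ^ j
  int : ∀ j : ℤ, b ^ j ∈ ι.range → b ^ j = 1

variable {Y : Type u} [Group Y] {β : MulAut Y} {G : Type u} [Group G] {ι : Y →* G} {b : G}

theorem Xt.cj_zpow (E : Xt β ι b) (j : ℤ) (y : Y) : b ^ j * ι y * (b ^ j)⁻¹ = ι ((β ^ j) y) := by
  have hnat : ∀ (m : ℕ) (y : Y), b ^ m * ι y * (b ^ m)⁻¹ = ι ((β ^ m) y) := by
    intro m
    induction m with
    | zero => intro y; simp
    | succ m ih =>
      intro y
      have h1 : b ^ (m + 1) * ι y * (b ^ (m + 1))⁻¹ = b ^ m * (b * ι y * b⁻¹) * (b ^ m)⁻¹ := by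
        rw [pow_succ]; group
      rw [h1, E.cj, ih, pow_succ]
      rfl
  obtain ⟨m, rfl | rfl⟩ := j.eq_nat_or_neg
  · rw [zpow_natCast, zpow_natCast]
    exact hnat m y
  · have h1 := hnat m ((β ^ (-(m : ℤ))) y)
    have h2 : (β ^ m) ((β ^ (-(m : ℤ))) y) = y := by
      rw [← MulAut.mul_apply, zpow_neg, zpow_natCast, mul_inv_cancel, MulAut.one_apply]
    rw [h2] at h1
    rw [← h1, zpow_neg, zpow_natCast]
    group

theorem Xt.comm (E : Xt β ι b) (j : ℤ) (y : Y) : b ^ j * ι y = ι ((β ^ j) y) * b ^ j := by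
  rw [← E.cj_zpow]; group

theorem Xt.eq_of (E : Xt β ι b) {y y' : Y} {j j' : ℤ} (h : ι y * b ^ j = ι y' * b ^ j') : y = y' ∧ b ^ j = b ^ j' := by
  have h1 : b ^ (j - j') = ι (y⁻¹ * y') := by
    rw [zpow_sub, map_mul, map_inv]
    have : b ^ j = (ι y)⁻¹ * (ι y' * b ^ j') := by rw [← h]; group
    rw [this]; group
  have h2 := E.int (j - j') (by rw [h1]; exact ⟨_, rfl⟩)
  have h3 : b ^ j = b ^ j' := by
    rw [zpow_sub, mul_inv_eq_one] at h2
    exact h2
  refine ⟨?_, h3⟩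
  rw [h3] at h
  exact E.inj (mul_right_cancel h)

/-- the subgroup `U <b>` -/
def DD (E : Xt β ι b) (U : Subgroup Y) (hU : ∀ j : ℤ, ∀ u ∈ U, (β ^ j) u ∈ U) : Subgroup G where
  carrier := {g | ∃ u ∈ U, ∃ j : ℤ, g = ι u * b ^ j}
  mul_mem' := by
    rintro _ _ ⟨u, hu, i, rfl⟩ ⟨v, hv, j, rfl⟩
    refine ⟨u * (β ^ i) v, U.mul_mem hu (hU i v hv), i + j, ?_⟩
    rw [map_mul, zpow_add]
    calc ι u * b ^ i * (ι v * b ^ j) = ι u * (b ^ i * ι v) * b ^ j := by group
      _ = _ := by rw [E.comm]; group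
  one_mem' := ⟨1, U.one_mem, 0, by simp⟩
  inv_mem' := by
    rintro _ ⟨u, hu, i, rfl⟩
    refine ⟨(β ^ (-i)) u⁻¹, hU _ _ (U.inv_mem hu), -i, ?_⟩
    rw [← E.comm, mul_inv_rev, map_inv, zpow_neg]

variable (E : Xt β ι b) (U : Subgroup Y) (hU : ∀ j : ℤ, ∀ u ∈ U, (β ^ j) u ∈ U)

theorem mem_DD {g : G} : g ∈ DD E U hU ↔ ∃ u ∈ U, ∃ j : ℤ, g = ι u * b ^ j := Iff.rfl

theorem iota_mem_DD {u : Y} : ι u ∈ DD E U hU ↔ u ∈ U := by
  constructor
  · rintro ⟨v, hv, j, e⟩
    have h1 := E.eq_of (y := u) (j := 0) (y' := v) (j' := j) (by rw [zpow_zero, mul_one]; exact e)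
    rw [h1.1]; exact hv
  · intro h
    exact ⟨u, h, 0, by simp⟩

theorem b_mem_DD : b ∈ DD E U hU := ⟨1, U.one_mem, 1, by simp⟩

theorem isPGroup_DD [Finite Y] (hp : IsPGroup 2 U) (hb : ∃ k : ℕ, b ^ 2 ^ k = 1) : IsPGroup 2 (DD E U hU) := by
  have : Fact (Nat.Prime 2) := ⟨Nat.prime_two⟩
  have h1 : DD E U hU = U.map ι ⊔ Subgroup.zpowers b := by
    apply le_antisymm
    · rintro _ ⟨u, hu, j, rfl⟩
      exact Subgroup.mul_mem_sup ⟨u, hu, rfl⟩ ⟨j, rfl⟩
    · rw [sup_le_iff]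
      constructor
      · rintro _ ⟨u, hu, rfl⟩
        exact (iota_mem_DD E U hU).2 hu
      · rw [Subgroup.zpowers_le]
        exact b_mem_DD E U hU
  rw [h1]
  refine IsPGroup.to_sup_of_normal_left' (hp.map ι) ?_ ?_
  · obtain ⟨k, hk⟩ := hb
    have h2 : Nat.card (Subgroup.zpowers b) ∣ 2 ^ k := by
      rw [Nat.card_zpowers]
      exact orderOf_dvd_of_pow_eq_one hk
    obtain ⟨j, -, hj⟩ := (Nat.dvd_prime_pow Nat.prime_two).1 h2
    exact IsPGroup.of_card hj
  · rw [Subgroup.zpowers_le, Subgroup.mem_normalizer_iff]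
    intro g
    constructor
    · rintro ⟨u, hu, rfl⟩
      rw [E.cj]
      refine ⟨_, ?_, rfl⟩
      have := hU 1 u hu
      rwa [zpow_one] at this
    · rintro ⟨u, hu, e⟩
      refine ⟨(β ^ (-1 : ℤ)) u, hU _ _ hu, ?_⟩
      rw [← E.cj_zpow, e, zpow_neg, zpow_one]
      group

theorem sq_DD {s : DD E U hU} (hs : s ∈ Sq (DD E U hU)) :
    ∃ u ∈ U, ∃ i : ℤ, (s : G) = ι u * b ^ (2 * i) := by
  unfold Sq at hs
  induction hs using Subgroup.closure_induction with
  | mem y hy =>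
    obtain ⟨⟨d, u, hu, j, rfl⟩, rfl⟩ := hy
    refine ⟨u * (β ^ j) u, U.mul_mem hu (hU j u hu), j, ?_⟩
    show (ι u * b ^ j) ^ 2 = _
    calc (ι u * b ^ j) ^ 2 = ι u * (b ^ j * ι u) * b ^ j := by rw [pow_two]; group
      _ = _ := by rw [E.comm, map_mul, two_mul, zpow_add]; group
  | one => exact ⟨1, U.one_mem, 0, by simp⟩
  | mul y z _ _ hy hz =>
    obtain ⟨u, hu, i, hi⟩ := hy
    obtain ⟨v, hv, j, hj⟩ := hz
    refine ⟨u * (β ^ (2 * i)) v, U.mul_mem hu (hU _ v hv), i + j, ?_⟩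
    rw [Subgroup.coe_mul, hi, hj]
    calc ι u * b ^ (2 * i) * (ι v * b ^ (2 * j)) = ι u * (b ^ (2 * i) * ι v) * b ^ (2 * j) := by group
      _ = _ := by rw [E.comm, map_mul, mul_add, zpow_add]; group
  | inv y _ hy =>
    obtain ⟨u, hu, i, hi⟩ := hy
    refine ⟨(β ^ (-(2 * i))) u⁻¹, hU _ _ (U.inv_mem hu), -i, ?_⟩
    rw [Subgroup.coe_inv, hi, mul_inv_rev, ← map_inv, mul_neg, ← E.comm, zpow_neg]

/-- the linear characters of `U <b>` -/
theorem card_hom_le [Finite G] (hc : ∀ l m : U →* ℤˣ, (∀ u : U, l ⟨β u, by simpa using hU 1 u u.2⟩ = l u) →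
    (∀ u : U, m ⟨β u, by simpa using hU 1 u u.2⟩ = m u) → l ≠ 1 → m ≠ 1 → l = m) :
    Nat.card (DD E U hU →* ℤˣ) ≤ 4 := by
  classical
  have hfin : Finite Y := Finite.of_injective ι E.inj
  let inc : U →* DD E U hU := (ι.comp U.subtype).codRestrict (DD E U hU) fun u => (iota_mem_DD E U hU).2 u.2
  let bD : DD E U hU := ⟨b, b_mem_DD E U hU⟩
  have hinv : ∀ f : DD E U hU →* ℤˣ, ∀ u : U, (f.comp inc) ⟨β u, by simpa using hU 1 u u.2⟩ = (f.comp inc) u := by
    intro f u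
    show f (inc _) = f (inc u)
    have h1 : inc ⟨β u, by simpa using hU 1 u u.2⟩ = bD * inc u * bD⁻¹ := by
      apply Subtype.ext
      exact (E.cj u).symm
    rw [h1, map_mul, map_mul, map_inv, mul_comm (f bD), mul_inv_cancel_right]
  by_cases hex : ∃ f₀ : DD E U hU →* ℤˣ, f₀.comp inc ≠ 1
  · obtain ⟨f₀, hf₀⟩ := hex
    let F : (DD E U hU →* ℤˣ) → Bool × ℤˣ := fun f => (decide (f.comp inc = 1), f bD)
    have hF : Function.Injective F := by
      intro f g hfg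
      have h1 : (f.comp inc = 1) ↔ (g.comp inc = 1) := by
        have := congrArg Prod.fst hfg
        simpa [F] using this
      have h2 : f bD = g bD := congrArg Prod.snd hfg
      have h3 : f.comp inc = g.comp inc := by
        by_cases h4 : f.comp inc = 1
        · rw [h4, h1.1 h4]
        · exact hc _ _ (hinv f) (hinv g) h4 (fun h5 => h4 (h1.2 h5))
      ext ⟨d, u, hu, j, e⟩
      have h4 : (⟨d, u, hu, j, e⟩ : DD E U hU) = inc ⟨u, hu⟩ * bD ^ j := by
        apply Subtype.ext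
        rw [Subgroup.coe_mul, Subgroup.coe_zpow]
        exact e
      rw [h4, map_mul, map_mul, map_zpow, map_zpow, h2, show f (inc ⟨u, hu⟩) = (f.comp inc) ⟨u, hu⟩ from rfl, h3]
      rfl
    have h1 := Nat.card_le_card_of_injective F hF
    have h2 : Nat.card (Bool × ℤˣ) = 4 := by rw [Nat.card_eq_fintype_card]; rfl
    omega
  · push Not at hex
    let F : (DD E U hU →* ℤˣ) → ℤˣ := fun f => f bD
    have hF : Function.Injective F := by
      intro f g h2
      ext ⟨d, u, hu, j, e⟩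
      have h4 : (⟨d, u, hu, j, e⟩ : DD E U hU) = inc ⟨u, hu⟩ * bD ^ j := by
        apply Subtype.ext
        rw [Subgroup.coe_mul, Subgroup.coe_zpow]
        exact e
      have h2' : f bD = g bD := h2
      rw [h4, map_mul, map_mul, map_zpow, map_zpow, h2', show f (inc ⟨u, hu⟩) = (f.comp inc) ⟨u, hu⟩ from rfl, hex f,
        show g (inc ⟨u, hu⟩) = (g.comp inc) ⟨u, hu⟩ from rfl, hex g]
    have h1 := Nat.card_le_card_of_injective F hF
    have h2 : Nat.card ℤˣ = 2 := by rw [Nat.card_eq_fintype_card]; rfl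
    omega

theorem card_sq {D : Type u} [Group D] [Finite D] (hD : IsPGroup 2 D) (h : Nat.card (D →* ℤˣ) ≤ 4) :
    Nat.card D ≤ 4 * Nat.card (Sq D) := by
  rw [H396.K547.card_hom_frattini hD] at h
  have h1 : (Sq D).index ≤ (frattini D).index :=
    Nat.le_of_dvd (Nat.pos_of_ne_zero Subgroup.index_ne_zero_of_finite) (Subgroup.index_dvd_of_le (frattini_le_sq D))
  rw [← (Sq D).card_mul_index, mul_comm]
  exact Nat.mul_le_mul_right _ (h1.trans h)

theorem sq_eq_frattini {D : Type u} [Group D] [Finite D] (hD : IsPGroup 2 D) : Sq D = frattini D := by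
  apply le_antisymm
  · rw [← H396.K547.KK_eq_frattini hD]
    unfold Sq
    rw [Subgroup.closure_le]
    rintro _ ⟨d, rfl⟩
    refine (H396.K547.mem_KK D).2 fun χ => ?_
    rw [map_pow, H396.K547.units_sq]
  · exact frattini_le_sq D

/-- some element of `U` is not in the Frattini subgroup -/
theorem exists_u [Finite G] (hp : IsPGroup 2 U) (hb : ∃ k : ℕ, b ^ 2 ^ k = 1) (hne : U ≠ ⊥) :
    ∃ u : Y, ∃ hu : u ∈ U, (⟨ι u, (iota_mem_DD E U hU).2 hu⟩ : DD E U hU) ∉ Sq (DD E U hU) := by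
  have hfin : Finite Y := Finite.of_injective ι E.inj
  by_contra hcon
  push Not at hcon
  apply hne
  have hD := isPGroup_DD E U hU hp hb
  have h1 : Subgroup.zpowers (⟨b, b_mem_DD E U hU⟩ : DD E U hU) ⊔ frattini (DD E U hU) = ⊤ := by
    rw [← sq_eq_frattini hD, eq_top_iff]
    rintro ⟨d, u, hu, j, e⟩ -
    have h4 : (⟨d, u, hu, j, e⟩ : DD E U hU) =
        (⟨b, b_mem_DD E U hU⟩ : DD E U hU) ^ j * (⟨ι ((β ^ (-j)) u), (iota_mem_DD E U hU).2 (hU _ _ hu)⟩ : DD E U hU) := by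
      apply Subtype.ext
      rw [Subgroup.coe_mul, Subgroup.coe_zpow]
      show d = b ^ j * ι ((β ^ (-j)) u)
      rw [E.comm, ← MulAut.mul_apply, ← zpow_add, add_neg_cancel, zpow_zero]
      exact e
    rw [h4]
    exact Subgroup.mul_mem_sup ⟨j, rfl⟩ (hcon _ (hU _ _ hu))
  have h2 := frattini_nongenerating h1
  rw [Subgroup.eq_bot_iff_forall]
  intro u hu
  have h3 : (⟨ι u, (iota_mem_DD E U hU).2 hu⟩ : DD E U hU) ∈ Subgroup.zpowers (⟨b, b_mem_DD E U hU⟩ : DD E U hU) := by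
    rw [h2]; exact Subgroup.mem_top _
  obtain ⟨j, hj⟩ := h3
  have h4 : b ^ j = ι u := congrArg Subtype.val hj
  have h5 := E.int j (by rw [h4]; exact ⟨u, rfl⟩)
  apply E.inj
  rw [← h4, h5, map_one]

end ext

section key

open CoxeterSystem Cfsg.Agent.ChevalleyStructure.CoxeterGeom Cfsg.Agent.Tits.Roots Cfsg.Agent.Tits.Core
  Cfsg.Agent.Tits.Exchange Cfsg.Agent.Nodes.Reps Cfsg.Agent.Nodes.BNOf Cfsg.Agent.Nodes.StabComb
  Cfsg.Agent.Nodes.Bruhat Cfsg.Agent.Nodes.OppDec Cfsg.Agent.Nodes.LeviDec Cfsg.Agent.H53.HC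
  Cfsg.Agent.H246.Dl Cfsg.Agent.KFacts.RgdAut Cfsg.Agent.KFacts.RgdDiag Cfsg.Agent.H307.QE Cfsg.Agent.H967.K4

variable {I W : Type*} {Y : Type u} [Fintype I] [DecidableEq I] [Group W] [Group Y] {M : CoxeterMatrix I}
  {cs : CoxeterSystem M W} {A : I → I → ℤ} {h : IsCartan M A} {T : Subgroup Y} {n : I → Y}
  {X : (I → ℤ) → Subgroup Y} (R : RGD cs h 2 T n X) {β : MulAut Y} {σ : Equiv.Perm I}

theorem fix_zpow {H : Subgroup Y} (hH : Fix β H) (j : ℤ) : Fix (β ^ j) H := by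
  obtain ⟨m, rfl | rfl⟩ := j.eq_nat_or_neg
  · rw [zpow_natCast]; exact H307.QE.Fix.pow hH m
  · rw [zpow_neg, zpow_natCast]; exact (H307.QE.Fix.pow hH m).inv

/-- odd powers of an element of 2-power order generate the same group -/
theorem exists_odd_inv {G : Type*} [Group G] {b : G} (hb : ∃ k : ℕ, b ^ 2 ^ k = 1) {j : ℤ} (hj : Odd j) :
    ∃ m : ℤ, (b ^ j) ^ m = b := by
  obtain ⟨k, hk⟩ := hb
  have hco : IsCoprime j ((2 : ℤ) ^ k) := by
    apply IsCoprime.pow_right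
    obtain ⟨i, rfl⟩ := hj
    exact ⟨1, -i, by ring⟩
  obtain ⟨u, v, huv⟩ := hco
  refine ⟨u, ?_⟩
  have h2 : b ^ ((2 : ℤ) ^ k) = 1 := by
    rw [← hk, ← zpow_natCast]
    norm_num
  have h4 : b = b ^ (u * j + v * 2 ^ k) := by rw [huv, zpow_one]
  rw [zpow_add, mul_comm v, zpow_mul b (2 ^ k) v, h2, one_zpow, mul_one] at h4
  rw [← zpow_mul, mul_comm]
  exact h4.symm

variable {R}

theorem Nrm.diag_zpow [Finite W] (hN : Nrm R β σ) (j : ℤ) : Diag T X (β ^ j) (σ ^ j) := by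
  obtain ⟨m, rfl | rfl⟩ := j.eq_nat_or_neg
  · rw [zpow_natCast, zpow_natCast]; exact hN.diag.pow m
  · rw [zpow_neg, zpow_neg, zpow_natCast, zpow_natCast]; exact (hN.diag.pow m).inv

theorem exists_nat {G : Type*} [Group G] {b : G} (hb : ∃ k : ℕ, b ^ 2 ^ k = 1) {j : ℤ} (hj : Odd j) :
    ∃ m : ℕ, Odd m ∧ b ^ j = b ^ m := by
  obtain ⟨k, hk⟩ := hb
  have h2 : b ^ ((2 : ℤ) ^ (k + 1)) = 1 := by
    have h3 : b ^ (2 ^ (k + 1)) = 1 := by rw [pow_succ, pow_mul, hk, one_pow]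
    rw [← h3, ← zpow_natCast]
    norm_num
  have hpos : (0 : ℤ) < 2 ^ (k + 1) := by positivity
  have h0 := Int.emod_nonneg j hpos.ne'
  have h4 : j = j % 2 ^ (k + 1) + 2 ^ (k + 1) * (j / 2 ^ (k + 1)) := (Int.emod_add_mul_ediv _ _).symm
  refine ⟨(j % 2 ^ (k + 1)).toNat, ?_, ?_⟩
  · rw [← Int.odd_coe_nat, Int.toNat_of_nonneg h0]
    have h5 : Even ((2 : ℤ) ^ (k + 1) * (j / 2 ^ (k + 1))) := by
      rw [pow_succ, mul_assoc, mul_left_comm]
      exact even_two_mul _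
    rw [h4] at hj
    exact (Int.odd_add.1 hj).2 h5
  · rw [← zpow_natCast, Int.toNat_of_nonneg h0]
    conv_lhs => rw [h4]
    rw [zpow_add, zpow_mul, h2, one_zpow, mul_one]

/-- **Only one chamber.** -/
theorem mem_B_or [Finite W] [Finite Y] (hG : GG cs h T X = ⊤) (hN : Nrm R β σ)
    (hW : ∀ w, hat cs σ hN.sym w = w → w = 1 ∨ w = w0 cs) {j : ℕ} (hj : Odd j) {v y : Y}
    (hv : v ∈ RGD.Sup X (RGD.Pos cs h)) (hy : y⁻¹ * v * (β ^ j) y ∈ RGD.B cs h T X) :
    y ∈ RGD.B cs h T X ∨ ∃ u ∈ RGD.Sup X (RGD.Pos cs h), v = u * (β ^ j) u⁻¹ := by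
  obtain ⟨w, hw⟩ := (mem_GG R).1 (show y ∈ GG cs h T X by rw [hG]; exact Subgroup.mem_top _)
  obtain ⟨u, hu, k, hk, v', hv', rfl⟩ := Nodes.NormalForm.exists_normal_form R hw
  have hv'U : v' ∈ RGD.Sup X (RGD.Pos cs h) := RGD.Sup_mono (S := Nodes.NormalForm.NW cs h w) (S' := RGD.Pos cs h) (fun x hx => ⟨hx.1, hx.2.1⟩) hv'
  have hUB : ∀ {x : Y}, x ∈ RGD.Sup X (RGD.Pos cs h) → x ∈ RGD.B cs h T X := fun hx => RGD.U_le_B hx
  have hγU := H307.QE.Fix.pow hN.fixU j
  have hγB := H307.QE.Fix.pow hN.fixB j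
  set γ := β ^ j with hγ
  have h1 : k⁻¹ * (u⁻¹ * v * γ u) * γ k ∈ RGD.B cs h T X := by
    have e : k⁻¹ * (u⁻¹ * v * γ u) * γ k = v' * ((u * k * v')⁻¹ * v * γ (u * k * v')) * (γ v')⁻¹ := by
      rw [map_mul, map_mul]; group
    rw [e]
    exact mul_mem (mul_mem (hUB hv'U) hy) (inv_mem (hUB ((hγU v').2 hv'U)))
  have hv₁ : u⁻¹ * v * γ u ∈ RGD.Sup X (RGD.Pos cs h) := mul_mem (mul_mem (inv_mem hu) hv) ((hγU u).2 hu)
  -- the cell of `γ k`
  have h2 : Cell R.nsys cs h X w (γ k) := by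
    have e : γ k = (u⁻¹ * v * γ u)⁻¹ * (k * (k⁻¹ * (u⁻¹ * v * γ u) * γ k)) := by group
    rw [e]
    exact ((cell_of_rp hk).mul_right h1).mul_left (inv_mem (hUB hv₁))
  have h3 : ∀ m : ℕ, Cell R.nsys cs h X w ((γ ^ m) k) := by
    intro m
    induction m with
    | zero => exact cell_of_rp hk
    | succ m ih =>
      obtain ⟨b₁, hb₁, k', hk', b₂, hb₂, e⟩ := ih
      have e1 : (γ ^ (m + 1)) k = γ b₁ * γ k' * γ b₂ := by
        rw [pow_succ', MulAut.mul_apply, e, map_mul, map_mul]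
      have h4 : k⁻¹ * k' ∈ T := hk.unique hk'
      have e2 : γ k' = γ k * γ (k⁻¹ * k') := by rw [← map_mul]; congr 1; group
      rw [e1, e2]
      have h5 : γ (k⁻¹ * k') ∈ RGD.B cs h T X := (hγB _).2 (RGD.T_le_B h4)
      exact (((h2.mul_right h5).mul_left ((hγB _).2 hb₁))).mul_right ((hγB _).2 hb₂)
  have h4 : hat cs σ hN.sym w = w := by
    have h5 : Cell R.nsys cs h X w (β k) := by
      obtain ⟨k₀, hk₀⟩ := hN.pow
      -- `γ ^ m = β`
      obtain ⟨m, hm⟩ : ∃ m : ℕ, γ ^ m = β := by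
        obtain ⟨m, hm⟩ := exists_odd_inv ⟨k₀, hk₀⟩ (j := (j : ℤ)) (by exact_mod_cast hj)
        rw [zpow_natCast, ← hγ] at hm
        have hfin : IsOfFinOrder γ := isOfFinOrder_of_finite γ
        obtain ⟨m', hm'⟩ := (hfin.mem_powers_iff_mem_zpowers (y := γ ^ m)).2 ⟨m, rfl⟩
        exact ⟨m', by rw [← hm]; exact hm'⟩
      have := h3 m
      rwa [hm] at this
    exact Cell.unique R (cell_of_rp (hN.diag.rp' (R := R) hN.sym hk)) h5
  rcases hW w h4 with rfl | rfl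
  · left
    have hkT : k ∈ T := hk.mem_of_one
    exact mul_mem (mul_mem (hUB hu) (RGD.T_le_B hkT)) (hUB hv'U)
  · right
    have h5 : ∀ m : ℕ, Rp cs R.nsys (w0 cs) ((β ^ m) k) := by
      intro m
      induction m with
      | zero => exact hk
      | succ m ih =>
        have := hN.diag.rp' (R := R) hN.sym ih
        rw [h4] at this
        rwa [pow_succ', MulAut.mul_apply]
    have h6 : k⁻¹ * γ k ∈ T := hk.unique (h5 j)
    have h7 : k⁻¹ * (u⁻¹ * v * γ u) * k ∈ RGD.B cs h T X := by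
      have e : k⁻¹ * (u⁻¹ * v * γ u) * k = k⁻¹ * (u⁻¹ * v * γ u) * γ k * (k⁻¹ * γ k)⁻¹ := by group
      rw [e]
      exact mul_mem h1 (inv_mem (RGD.T_le_B h6))
    have h8 : k⁻¹ * (u⁻¹ * v * γ u) * k ∈ UN cs h X := by
      have h9 := hv₁
      rw [← cj_UN R hk] at h9
      exact mem_cj.1 h9
    have h9 := eq_one_of_mem_UN_of_mem_B R h8 h7
    refine ⟨u, hu, ?_⟩
    have h10 : u⁻¹ * v * γ u = 1 := by
      have e : u⁻¹ * v * γ u = k * (k⁻¹ * (u⁻¹ * v * γ u) * k) * k⁻¹ := by group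
      rw [e, h9]; group
    rw [map_inv]
    have e : v = u * (u⁻¹ * v * γ u) * (γ u)⁻¹ := by group
    rw [e, h10, mul_one]

omit R in
theorem hat_wordProd (cs : CoxeterSystem M W) (σ : Equiv.Perm I) (hσ : ∀ i j, M (σ i) (σ j) = M i j) (ω : List I) :
    hat cs σ hσ (cs.wordProd ω) = cs.wordProd (ω.map σ) := by
  induction ω with
  | nil => rw [List.map_nil, wordProd_nil, map_one]
  | cons i ω ih => rw [List.map_cons, wordProd_cons, wordProd_cons, map_mul, ih, hat_simple]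

omit R in
theorem length_hat_le (cs : CoxeterSystem M W) (σ : Equiv.Perm I) (hσ : ∀ i j, M (σ i) (σ j) = M i j) (w : W) :
    cs.length (hat cs σ hσ w) ≤ cs.length w := by
  obtain ⟨ω, h1, rfl⟩ := cs.exists_isReduced w
  rw [hat_wordProd]
  refine (cs.length_wordProd_le _).trans ?_
  rw [List.length_map]
  exact h1.ge

/-- the elements of `W` fixed by a transitive symmetry of the diagram -/
theorem hat_fixed [Finite W] (h : IsCartan M A) (cs : CoxeterSystem M W) (σ : Equiv.Perm I)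
    (hσ : ∀ i j, M (σ i) (σ j) = M i j) (htr : ∀ i j, ∃ k : ℕ, (σ ^ k) i = j) {w : W} (hw : hat cs σ hσ w = w) :
    w = 1 ∨ w = w0 cs := by
  by_cases h1 : w = 1
  · exact Or.inl h1
  right
  obtain ⟨i, hi⟩ := cs.exists_rightDescent_of_ne_one h1
  have hstep : ∀ j, cs.length (w * cs.simple j) < cs.length w → cs.length (w * cs.simple (σ j)) < cs.length w := by
    intro j hj
    have h2 := length_hat_le cs σ hσ (w * cs.simple j)
    rw [map_mul, hw, hat_simple] at h2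
    omega
  have hall : ∀ j, cs.length (w * cs.simple j) < cs.length w := by
    intro j
    obtain ⟨k, rfl⟩ := htr i j
    induction k with
    | zero => exact hi
    | succ k ih => rw [pow_succ', Equiv.Perm.mul_apply]; exact hstep _ ih
  have hneg : ∀ r : I → ℤ, 0 ≤ r → rep cs h w r ≤ 0 := by
    intro r hr
    have e : r = ∑ j, r j • (Pi.single j 1 : I → ℤ) := by
      ext j
      simp [Finset.sum_apply, Pi.single_apply]
    rw [e, map_sum]
    refine Finset.sum_nonpos fun j _ => ?_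
    rw [map_zsmul]
    exact smul_nonpos_of_nonneg_of_nonpos (hr j) (nonpos_of_lt cs h w j (hall j))
  have h2 : w * w0 cs = 1 := by
    apply eq_one_of_nonneg cs h
    intro j
    rw [rep_mul_apply]
    have h3 : rep cs h (w0 cs) (sr j) ≤ 0 := rep_w0_nonpos (isRoot_sr cs h j) (sr_nonneg j)
    have h4 := hneg (-rep cs h (w0 cs) (sr j)) (neg_nonneg.2 h3)
    rw [map_neg] at h4
    exact neg_nonpos.1 h4
  rw [mul_eq_one_iff_eq_inv.1 h2, w0_inv]

variable {G : Type u} [Group G] {ι : Y →* G} {b : G}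

/-- the hypothesis on the linear characters of `U` -/
def OneHom (β : MulAut Y) (U : Subgroup Y) : Prop :=
  ∀ l m : U →* ℤˣ, (∀ (u : U) (hu : β u ∈ U), l ⟨β u, hu⟩ = l u) → (∀ (u : U) (hu : β u ∈ U), m ⟨β u, hu⟩ = m u) →
    l ≠ 1 → m ≠ 1 → l = m

theorem fixU_zpow (hN : Nrm R β σ) : ∀ j : ℤ, ∀ u ∈ RGD.Sup X (RGD.Pos cs h), (β ^ j) u ∈ RGD.Sup X (RGD.Pos cs h) :=
  fun j u hu => (fix_zpow hN.fixU j u).2 hu

theorem U_ne_bot [Finite W] (R : RGD cs h 2 T n X) [Nonempty I] : RGD.Sup X (RGD.Pos cs h) ≠ ⊥ := by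
  intro h0
  obtain ⟨i⟩ := ‹Nonempty I›
  refine X_ne_bot R (isRoot_sr cs h i) (eq_bot_iff.2 ?_)
  rw [← h0]
  exact RGD.le_Sup (S := RGD.Pos cs h) ⟨isRoot_sr cs h i, sr_nonneg i⟩

/-- the order of the linear character group of `U <b>` -/
theorem card_hom_le' [Finite W] [Finite G] (hN : Nrm R β σ) (E : Xt β ι b)
    (hc : OneHom β (RGD.Sup X (RGD.Pos cs h))) :
    Nat.card (DD E (RGD.Sup X (RGD.Pos cs h)) (fixU_zpow hN) →* ℤˣ) ≤ 4 :=
  card_hom_le E _ _ fun l m hl hm h1 h2 => hc l m (fun u _ => hl u) (fun u _ => hm u) h1 h2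

/-- **The bound for the number of the good characters.** -/
theorem fg_le [Finite W] [Finite Y] [Finite G] [Nonempty I] (hG : GG cs h T X = ⊤) (hN : Nrm R β σ)
    (hW : ∀ w, hat cs σ hN.sym w = w → w = 1 ∨ w = w0 cs) (hT : ∀ t ∈ T, β t = t → t = 1)
    (hc : OneHom β (RGD.Sup X (RGD.Pos cs h))) (E : Xt β ι b) (hb : ∃ k : ℕ, b ^ 2 ^ k = 1) : fg G ≤ 4 := by
  have hD := isPGroup_DD E _ (fixU_zpow hN) R.isPGroup_Upos hb
  obtain ⟨u₀, hu₀, hu₀'⟩ := exists_u E _ (fixU_zpow hN) R.isPGroup_Upos hb (U_ne_bot R)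
  set U := RGD.Sup X (RGD.Pos cs h) with hUdef
  set D := DD E U (fixU_zpow hN) with hDdef
  let x₀ : D := ⟨ι u₀, (iota_mem_DD E U _).2 hu₀⟩
  let bD : D := ⟨b, b_mem_DD E U _⟩
  refine fg_le_four D hD (x₀ * bD) (card_sq hD (card_hom_le' hN E hc)) fun a a' g hg => ?_
  -- the elements of the coset
  have hz : ∀ a : Sq D, ∃ v ∈ U, ∃ m : ℕ, Odd m ∧ cz (x₀ * bD) a = ι v * b ^ m := by
    intro a
    obtain ⟨v, hv, i, hi⟩ := sq_DD E U (fixU_zpow hN) a.2
    have h1 : cz (x₀ * bD) a = ι (u₀ * β v) * b ^ (1 + 2 * i) := by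
      show ι u₀ * b * ((a : D) : G) = _
      rw [hi, zpow_add, zpow_one, map_mul]
      have := E.comm 1 v
      rw [zpow_one, zpow_one] at this
      calc ι u₀ * b * (ι v * b ^ (2 * i)) = ι u₀ * (b * ι v) * b ^ (2 * i) := by group
        _ = _ := by rw [this]; group
    obtain ⟨m, hm, e⟩ := exists_nat hb (j := 1 + 2 * i) ⟨i, by ring⟩
    refine ⟨u₀ * β v, mul_mem hu₀ ((hN.fixU v).2 hv), m, hm, ?_⟩
    rw [h1, e]
  obtain ⟨v, hv, m, hm, hzv⟩ := hz a
  obtain ⟨v', hv', m', hm', hzv'⟩ := hz a'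
  obtain ⟨y, i, rfl⟩ := E.gen g
  -- the equation
  have e1 : ι (y * (β ^ i) v * (β ^ m) y⁻¹) * b ^ m = ι v' * b ^ m' := by
    rw [← hzv', ← hg, hzv]
    have h1 := E.comm i v
    have h2 := E.comm (m : ℤ) y⁻¹
    rw [zpow_natCast, zpow_natCast] at h2
    calc ι (y * (β ^ i) v * (β ^ m) y⁻¹) * b ^ m = ι y * ι ((β ^ i) v) * (ι ((β ^ m) y⁻¹) * b ^ m) := by
          rw [map_mul, map_mul]; group
      _ = ι y * (ι ((β ^ i) v) * b ^ i) * (b ^ i)⁻¹ * (b ^ m * ι y⁻¹) := by rw [← h2]; group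
      _ = ι y * (b ^ i * ι v) * (b ^ i)⁻¹ * (b ^ m * ι y⁻¹) := by rw [h1]
      _ = ι y * b ^ i * (ι v * b ^ m) * (ι y * b ^ i)⁻¹ := by rw [map_inv]; group
  obtain ⟨e2, e3⟩ := E.eq_of (j := m) (j' := m') (by rw [zpow_natCast, zpow_natCast]; exact e1)
  have hvi : (β ^ i) v ∈ U := fixU_zpow hN i v hv
  have hbeta : β ^ m = β ^ m' := by
    ext w
    apply E.inj
    have h1 := E.cj_zpow m w
    have h2 := E.cj_zpow m' w
    rw [zpow_natCast, zpow_natCast] at h1 h2 e3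
    rw [← h1, ← h2, e3]
  -- `y ∈ B`
  have hy : y⁻¹ * v' * (β ^ m) y ∈ RGD.B cs h T X := by
    have e : y⁻¹ * v' * (β ^ m) y = (β ^ i) v := by
      rw [← e2, map_inv]; group
    rw [e]
    exact RGD.U_le_B hvi
  rcases mem_B_or hG hN hW hm hv' hy with hyB | ⟨u₁, hu₁, hv'1⟩
  · obtain ⟨t, ht, u, hu, e⟩ := R.mem_B.1 (inv_mem hyB)
    have hyt : y = u⁻¹ * t⁻¹ := by rw [← inv_inv y, e, mul_inv_rev]
    -- `t⁻¹ (β ^ m) t ∈ U`
    have h3 : t⁻¹ * (β ^ m) t ∈ U := by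
      have h4 : t⁻¹ * (β ^ m) t = (t⁻¹ * ((β ^ i) v)⁻¹ * t) * (u * v' * ((β ^ m) u)⁻¹) := by
        rw [← e2, hyt, mul_inv_rev, inv_inv, inv_inv, map_mul]
        group
      rw [h4]
      refine mul_mem ?_ (mul_mem (mul_mem hu hv') (inv_mem (((H307.QE.Fix.pow hN.fixU m) u).2 hu)))
      have := (Subgroup.mem_normalizer_iff.1 (R.T_le_normalizer_U (inv_mem ht)) ((β ^ i) v)⁻¹).1 (inv_mem hvi)
      rwa [inv_inv] at this
    have h4 : t⁻¹ * (β ^ m) t ∈ T := mul_mem (inv_mem ht) (((H307.QE.Fix.pow hN.fixT m) t).2 ht)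
    have h5 : t⁻¹ * (β ^ m) t = 1 := by
      have : t⁻¹ * (β ^ m) t ∈ U ⊓ T := ⟨h3, h4⟩
      rwa [hUdef, U_inf_T R, Subgroup.mem_bot] at this
    have h6 : (β ^ m) t = t := (inv_mul_eq_one.1 h5).symm
    have h7 : β t = t := by
      obtain ⟨j, hj⟩ := exists_odd_inv hN.pow (j := (m : ℤ)) (by exact_mod_cast hm)
      rw [zpow_natCast] at hj
      have h8 : (MulAction.stabilizer (MulAut Y) t) = MulAction.stabilizer (MulAut Y) t := rfl
      have h9 : β ^ m ∈ MulAction.stabilizer (MulAut Y) t := h6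
      have h10 := Subgroup.zpow_mem _ h9 j
      rw [hj] at h10
      exact h10
    have h8 := hT t ht h7
    rw [h8, inv_one, mul_one] at hyt
    exact ⟨y, by rw [hyt]; exact inv_mem hu, i, rfl⟩
  · exfalso
    apply hu₀'
    -- `cz = ι u₁ * b ^ m' * (ι u₁)⁻¹`
    have h3 : cz (x₀ * bD) a' = ι u₁ * b ^ m' * (ι u₁)⁻¹ := by
      rw [hzv', hv'1, hbeta, map_mul, mul_assoc]
      have := E.comm (m' : ℤ) u₁⁻¹
      rw [zpow_natCast, zpow_natCast] at this
      rw [← this, map_inv]; group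
    let w₁ : D := ⟨ι u₁, (iota_mem_DD E U _).2 hu₁⟩
    have h4 : x₀ * bD * (a' : D) = w₁ * bD ^ m' * w₁⁻¹ := by
      apply Subtype.ext
      exact h3
    obtain ⟨k, rfl⟩ := hm'
    have hKK : ∀ {d : D}, d ∈ Sq D ↔ ∀ χ : D →* ℤˣ, χ d = 1 := by
      intro d
      rw [sq_eq_frattini hD, ← H396.K547.KK_eq_frattini hD]
      exact H396.K547.mem_KK D
    refine hKK.2 fun χ => ?_
    have h5 := congrArg χ h4
    rw [map_mul, map_mul, map_mul, map_mul, map_inv, hKK.1 a'.2 χ, mul_one, mul_comm (χ w₁), mul_inv_cancel_right,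
      map_pow, pow_succ, pow_mul, H396.K547.units_sq, one_pow, one_mul] at h5
    exact mul_eq_right.1 h5

/-- `Y` and its group of automorphisms -/
theorem xt_autExt [Finite W] [Finite Y] (hG : GG cs h T X = ⊤) (hZ : Subgroup.center Y = ⊥) (hN : Nrm R β σ) :
    Xt β ((MulAut.conj : Y →* MulAut Y).codRestrict (AutExt β) fun y =>
      (le_sup_left : _ ≤ AutExt β) ⟨y, rfl⟩) ⟨β, (le_sup_right : _ ≤ AutExt β) (Subgroup.mem_zpowers β)⟩ := by
  have hker : ∀ s : Y, MulAut.conj s = 1 → s = 1 := by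
    intro s hs
    have h1 : s ∈ Subgroup.center Y := by
      rw [Subgroup.mem_center_iff]
      intro y
      have h2 : s * y * s⁻¹ = y := congrArg (fun f : MulAut Y => f y) hs
      calc y * s = s * y * s⁻¹ * s := by rw [h2]
        _ = s * y := by group
    rwa [hZ, Subgroup.mem_bot] at h1
  refine ⟨?_, ?_, ?_, ?_⟩
  · rw [injective_iff_map_eq_one]
    intro s hs
    exact hker s (congrArg Subtype.val hs)
  · intro y
    apply Subtype.ext
    show β * MulAut.conj y * β⁻¹ = MulAut.conj (β y)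
    ext x
    simp only [MulAut.mul_apply, MulAut.conj_apply, map_mul, map_inv, MulAut.apply_inv_self]
  · rintro ⟨g, hg⟩
    have hn : (MulAut.conj : Y →* MulAut Y).range.Normal := inferInstance
    obtain ⟨a, ⟨y, rfl⟩, c, ⟨j, rfl⟩, rfl⟩ := Subgroup.mem_sup_of_normal_left.1 (show g ∈ (MulAut.conj : Y →* MulAut Y).range ⊔
      Subgroup.zpowers β from hg)
    exact ⟨y, j, Subtype.ext rfl⟩
  · rintro j ⟨s, hs⟩
    have h1 : MulAut.conj s = β ^ j := by
      have := congrArg Subtype.val hs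
      rwa [Subgroup.coe_zpow] at this
    have h2 : s ∈ T := by
      refine mem_T_of_conj R hG ?_ ?_
      · rw [h1]; exact fix_zpow hN.fixU j
      · rw [h1]; exact fix_zpow hN.fixUN j
    obtain ⟨k, hk⟩ := hN.pow
    have h3 : s ^ 2 ^ k = 1 := by
      apply hker
      rw [map_pow, h1, ← zpow_natCast, ← zpow_mul, mul_comm, zpow_mul, zpow_natCast, hk, one_zpow]
    have h4 : s = 1 := by
      have h5 : (⟨s, h2⟩ : T) ^ 2 ^ k = 1 := Subtype.ext h3
      have h6 := orderOf_dvd_of_pow_eq_one h5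
      have h7 : orderOf (⟨s, h2⟩ : T) ∣ Nat.card T := orderOf_dvd_natCard _
      have h8 : Nat.Coprime (2 ^ k) (Nat.card T) := Nat.Coprime.pow_left _ R.tcop.symm
      have h9 := Nat.eq_one_of_dvd_coprimes h8 h6 h7
      exact congrArg Subtype.val (orderOf_eq_one_iff.1 h9)
    apply Subtype.ext
    rw [Subgroup.coe_zpow, ← h1, h4, map_one]
    rfl

/-- **The special rows.** -/
theorem not_special [Finite W] [Finite Y] [Nonempty I] [IsSimpleGroup Y] (hG : GG cs h T X = ⊤)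
    (hna : ¬ IsMulCommutative Y) (hN : Nrm R β σ) (ho : ¬ IsInn β)
    (htr : ∀ i j, ∃ k : ℕ, (σ ^ k) i = j) (hT : ∀ t ∈ T, β t = t → t = 1)
    (hc : OneHom β (RGD.Sup X (RGD.Pos cs h))) : ¬ GInv3 β ∧ ¬ D3 (AutExt β) := by
  have hW : ∀ w, hat cs σ hN.sym w = w → w = 1 ∨ w = w0 cs := fun w hw => hat_fixed h cs σ hN.sym htr hw
  have : Fact (Nat.Prime 2) := ⟨Nat.prime_two⟩
  have hfin : Finite (MulAut Y) := Finite.of_injective (fun f : MulAut Y => (f : Y → Y)) DFunLike.coe_injective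
  have E := xt_autExt hG (center_eq_bot hna) hN
  have hb : ∃ k : ℕ, (⟨β, (le_sup_right : _ ≤ AutExt β) (Subgroup.mem_zpowers β)⟩ : AutExt β) ^ 2 ^ k = 1 := by
    obtain ⟨k, hk⟩ := hN.pow
    exact ⟨k, Subtype.ext hk⟩
  have htwo : TwoPow β := by
    obtain ⟨k, hk⟩ := hN.pow
    exact ⟨k, 1, fun x => by rw [hk]; simp⟩
  constructor
  · intro h3
    have h1 := five_le hna htwo ho h3
    have h2 := fg_le hG hN hW hT hc E hb
    omega
  · intro h3
    set D := DD E _ (fixU_zpow hN) with hD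
    have hDp : IsPGroup 2 D := isPGroup_DD E _ (fixU_zpow hN) R.isPGroup_Upos hb
    obtain ⟨P, hP⟩ := hDp.exists_le_sylow
    have hPD : (P : Subgroup (AutExt β)) = D := by
      refine le_antisymm ?_ hP
      intro g hg
      obtain ⟨y, i, rfl⟩ := E.gen g
      have h1 := hP (b_mem_DD E _ (fixU_zpow hN))
      have h2 := mul_mem hg (inv_mem (zpow_mem h1 i))
      rw [mul_inv_cancel_right] at h2
      refine ⟨y, ?_, i, rfl⟩
      -- `y ∈ U`
      set Q := (P : Subgroup (AutExt β)).comap ((MulAut.conj : Y →* MulAut Y).codRestrict (AutExt β) fun y =>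
        (le_sup_left : _ ≤ AutExt β) ⟨y, rfl⟩) with hQ
      have hQp : IsPGroup 2 Q := P.isPGroup'.comap_of_injective _ E.inj
      have hUQ : RGD.Sup X (RGD.Pos cs h) ≤ Q := fun u hu => hP ((iota_mem_DD E _ (fixU_zpow hN)).2 hu)
      have h3 : (RGD.Sup X (RGD.Pos cs h)).relIndex Q = 1 := by
        have h4 : (RGD.Sup X (RGD.Pos cs h)).relIndex Q ∣ (RGD.Sup X (RGD.Pos cs h)).index :=
          Subgroup.relIndex_dvd_index_of_le hUQ
        have h5 := odd_index_U R hG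
        obtain ⟨a, ha⟩ := IsPGroup.iff_card.1 hQp
        have h6 : (RGD.Sup X (RGD.Pos cs h)).relIndex Q ∣ 2 ^ a := by
          rw [← ha]; exact Subgroup.relIndex_dvd_card _ _
        exact Nat.eq_one_of_dvd_coprimes (Nat.Coprime.pow_left a (Nat.coprime_two_left.2 h5)) h6 h4
      exact Subgroup.relIndex_eq_one.1 h3 h2
    have h4 := (H396.K547.d3_iff P).1 h3
    have h5 : Nat.card (D →* ℤˣ) ≤ 4 := card_hom_le' hN E hc
    have h6 : Nat.card (↥(P : Subgroup (AutExt β)) →* ℤˣ) = Nat.card (D →* ℤˣ) := by rw [hPD]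
    have h7 : Nat.card (↥P →* ℤˣ) = Nat.card (↥(P : Subgroup (AutExt β)) →* ℤˣ) := rfl
    omega

/-- **The special rows.** -/
theorem extRow_special [Finite W] [Finite Y] [Nonempty I] [IsSimpleGroup Y] (hG : GG cs h T X = ⊤)
    (hna : ¬ IsMulCommutative Y) (hN : Nrm R β σ) (ho : ¬ IsInn β)
    (htr : ∀ i j, ∃ k : ℕ, (σ ^ k) i = j) (hT : ∀ t ∈ T, β t = t → t = 1)
    (hc : OneHom β (RGD.Sup X (RGD.Pos cs h))) : ExtRow Y β := by
  obtain ⟨h1, h2⟩ := not_special hG hna hN ho htr hT hc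
  exact ⟨fun h3 => absurd h3 h1, fun h3 => absurd h3 h2⟩

end key

section transport

variable {S : Type u} [Group S]

theorem autExt_conj (g : S) (τ : MulAut S) : AutExt (MulAut.conj g * τ) = AutExt τ := by
  have hg : ∀ τ' : MulAut S, MulAut.conj g ∈ AutExt τ' := fun τ' => (le_sup_left : _ ≤ AutExt τ') ⟨g, rfl⟩
  have hm : ∀ τ' : MulAut S, τ' ∈ AutExt τ' := fun τ' =>
    (le_sup_right : _ ≤ AutExt τ') (Subgroup.mem_zpowers τ')
  apply le_antisymm
  · refine sup_le le_sup_left ?_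
    rw [Subgroup.zpowers_le]
    exact mul_mem (hg τ) (hm τ)
  · refine sup_le le_sup_left ?_
    rw [Subgroup.zpowers_le]
    have := mul_mem (inv_mem (hg (MulAut.conj g * τ))) (hm (MulAut.conj g * τ))
    rwa [inv_mul_cancel_left] at this

theorem isInn_conj (g : S) (τ : MulAut S) : IsInn (MulAut.conj g * τ) ↔ IsInn τ := by
  constructor
  · rintro ⟨s, hs⟩
    refine ⟨g⁻¹ * s, fun x => ?_⟩
    have h1 := hs x
    rw [MulAut.mul_apply, MulAut.conj_apply] at h1
    calc τ x = g⁻¹ * (g * τ x * g⁻¹) * g := by group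
      _ = _ := by rw [h1]; group
  · rintro ⟨s, hs⟩
    refine ⟨g * s, fun x => ?_⟩
    rw [MulAut.mul_apply, MulAut.conj_apply, hs]
    group

/-- `ExtRow` only depends on the class modulo inner automorphisms. -/
theorem extRow_of_conj {τ : MulAut S} (g : S) (h : ExtRow S (MulAut.conj g * τ)) : ExtRow S τ := by
  unfold ExtRow at h ⊢
  rw [autExt_conj] at h
  rw [← h]
  refine ⟨fun h1 => ?_, H307.QE.gInv3_conj g⟩
  refine H307.QE.gInv3_conj g⁻¹ ?_
  rwa [← mul_assoc, ← map_mul, inv_mul_cancel, map_one, one_mul]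

end transport

end Cfsg.Agent.H967.K547.Special
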